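import Cfsg.Agent.Lib.Dichotomy.Setup
import Cfsg.Agent.Lib.Fusion.CyclicIndexTwo
import Cfsg.Agent.Lib.PGroup.AbelianConjSylow

/-!
# The normalizer of the generated cores contains the centralizers of its involutions

A 2-constrained group of 2-rank at least 3 is generated by a Sylow 2-subgroup, its core and the normalizers
of four-groups' fusion inside that Sylow subgroup.
-/

set_option autoImplicit false

namespace CfsgLib.Dichotomy

open Subgroup Cfsg

/-- `16` is no divisor of a non-2-group of automorphisms of the quaternion group of order 8. -/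
theorem false_of_sixteen_dvd {r : ℕ} (hr : r.Prime) (hr2 : r ≠ 2) {Q : Type*} [Group Q] [Finite Q]
    (e : Q ≃* QuaternionGroup 2) (h16 : 16 ∣ Nat.card (MulAut Q)) (hrd : r ∣ Nat.card (MulAut Q)) : False := by
  classical
  set T := {w : QuaternionGroup 2 × QuaternionGroup 2 // w.1 ^ 2 ≠ 1 ∧ w.2 ^ 2 ≠ 1 ∧ w.1 * w.2 ≠ w.2 * w.1}
  have hT : Fintype.card T = 24 := by decide +kernel
  let f : MulAut (QuaternionGroup 2) → T := fun φ =>
    ⟨(φ (QuaternionGroup.a 1), φ (QuaternionGroup.xa 0)), by
      refine ⟨?_, ?_, ?_⟩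
      · rw [← map_pow, Ne, MulEquiv.map_eq_one_iff]
        decide
      · rw [← map_pow, Ne, MulEquiv.map_eq_one_iff]
        decide
      · rw [← map_mul, ← map_mul, Ne, φ.injective.eq_iff]
        decide⟩
  have hf : Function.Injective f := by
    intro φ ψ h
    have h' : φ (QuaternionGroup.a 1) = ψ (QuaternionGroup.a 1) ∧ φ (QuaternionGroup.xa 0) = ψ (QuaternionGroup.xa 0) :=
      Prod.mk.injEq _ _ _ _ ▸ congrArg Subtype.val h
    refine MulEquiv.ext ?_
    have ha : ∀ i, (QuaternionGroup.a i : QuaternionGroup 2) = QuaternionGroup.a 1 ^ i.val := by decide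
    have hxa : ∀ i, (QuaternionGroup.xa i : QuaternionGroup 2) = QuaternionGroup.xa 0 * QuaternionGroup.a i := by
      decide
    rintro (i | i)
    · rw [ha i, map_pow, map_pow, h'.1]
    · rw [hxa i, ha i, map_mul, map_mul, map_pow, map_pow, h'.1, h'.2]
  have hle : Nat.card (MulAut (QuaternionGroup 2)) ≤ 24 := by
    have h1 := Nat.card_le_card_of_injective f hf
    rwa [Nat.card_eq_fintype_card (α := T), hT] at h1
  have hcard : Nat.card (MulAut Q) = Nat.card (MulAut (QuaternionGroup 2)) :=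
    Nat.card_congr (MulAut.congr e).toEquiv
  have hco : Nat.Coprime 16 r := by
    have : Nat.Coprime (2 ^ 4) r := Nat.Coprime.pow_left 4 ((Nat.coprime_primes Nat.prime_two hr).2 (Ne.symm hr2))
    simpa using this
  have hpos : 0 < Nat.card (MulAut Q) := by
    haveI : Finite (MulAut Q) := Finite.of_injective (fun φ : MulAut Q => (φ : Q → Q)) DFunLike.coe_injective
    exact Nat.card_pos
  have := Nat.le_of_dvd hpos (hco.mul_dvd_of_dvd_of_dvd h16 hrd)
  have h3 : 3 ≤ r := by
    have := hr.two_le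
    omega
  omega

variable {X : Type*} [Group X] [Finite X]

omit [Finite X] in
theorem relIndex_mul_card_of_le {H K : Subgroup X} (h : H ≤ K) : H.relIndex K * Nat.card H = Nat.card K := by
  rw [relIndex, ← Nat.card_congr (subgroupOfEquivOfLe h).toEquiv, index_mul_card]

/-- A 2-group of automorphisms, or sixteen divides the number of automorphisms. -/
theorem isPGroup_mulAut_or_quaternion {Q : Subgroup X} (hQ : IsPGroup 2 Q)
    (hrk : ∀ V ≤ Q, IsElementaryAbelian 2 V → Nat.card V < 2 ^ 2) :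
    IsPGroup 2 (MulAut Q) ∨ Nonempty (Q ≃* QuaternionGroup 2) := by
  haveI : Fact (Nat.Prime 2) := ⟨Nat.prime_two⟩
  have hplane : ¬ PGroup.ConjAb.HasPlane 2 Q := by
    rintro ⟨E, hc, hcard, hexp⟩
    have hE : IsElementaryAbelian 2 (E.map Q.subtype) :=
      PGroup.elemAb_map ⟨hc, hexp⟩ _
    have := hrk _ (map_subtype_le _) hE
    rw [card_map_of_injective Q.subtype_injective, hcard] at this
    omega
  have hu := PGroup.ConjAb.unique_order_of_not_hasPlane Nat.prime_two hplane (hQ.to_subgroup ⊤)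
  have hu' : ∀ x y : Q, orderOf x = 2 → orderOf y = 2 → x ∈ zpowers y := by
    intro x y hx hy
    obtain ⟨i, hi⟩ := hu ⟨x, mem_top x⟩ ⟨y, mem_top y⟩ (by rwa [Subgroup.orderOf_mk]) (by rwa [Subgroup.orderOf_mk])
    exact ⟨i, congrArg Subtype.val hi⟩
  have hcyc : IsCyclic Q → IsPGroup 2 (MulAut Q) := by
    intro hc
    haveI := hc
    obtain ⟨n, hn⟩ := IsPGroup.iff_card.1 hQ
    rcases Nat.eq_zero_or_pos n with rfl | hn0
    · refine IsPGroup.of_card (n := 0) ?_
      rw [IsCyclic.card_mulAut, hn, pow_zero, Nat.totient_one]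
    · refine IsPGroup.of_card (n := n - 1) ?_
      rw [IsCyclic.card_mulAut, hn, Nat.totient_prime_pow Nat.prime_two hn0]
      simp
  rcases CfsgLib.Solvable.isCyclic_or_quaternion hQ hu' with hc | ⟨-, k, ⟨e⟩⟩
  · exact Or.inl (hcyc hc)
  rcases Nat.lt_or_ge k 1 with hk | hk
  · obtain rfl : k = 0 := by omega
    haveI : IsCyclic (QuaternionGroup 1) := QuaternionGroup.quaternionGroup_one_isCyclic
    exact Or.inl (hcyc (isCyclic_of_surjective e.symm.toMonoidHom e.symm.surjective))
  rcases Nat.lt_or_ge k 2 with hk' | hk'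
  · obtain rfl : k = 1 := by omega
    exact Or.inr ⟨e⟩
  refine Or.inl (IsPGroup.of_equiv (fun α => ?_) (MulAut.congr e).symm)
  exact CfsgLib.Fusion.aut_pow_quaternion hk' (hQ.of_equiv e) α

/-- A 2-constrained group with a Sylow 2-subgroup `R` of rank at least 3 is its subgroup `N` if `N` contains
`R` and the core and controls the fusion of four-groups of `R`. -/
theorem eq_top_of_constrained (hX : IsPConstrained 2 X) (R : Sylow 2 X) (N : Subgroup X)
    (hO : pPrimeCore 2 X ≤ N) (hRN : (R : Subgroup X) ≤ N) {A : Subgroup X} (hA : IsEight A)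
    (hAR : A ≤ (R : Subgroup X))
    (hfus : ∀ V ≤ (R : Subgroup X), IsElementaryAbelian 2 V → 2 ^ 2 ≤ Nat.card V →
      ∀ g : X, V.map (MulAut.conj g).toMonoidHom ≤ (R : Subgroup X) → g ∈ N) : N = ⊤ := by
  haveI : Fact (Nat.Prime 2) := ⟨Nat.prime_two⟩
  set L := pPrimePCore 2 X with hL
  haveI hLn : L.Normal := Cores.pPrimePCore_normal
  obtain ⟨P, hP'⟩ : ∃ P : Sylow 2 L, ((R : Subgroup X) ⊓ L).subgroupOf L ≤ P :=
    ((R.isPGroup'.to_le inf_le_left).of_equiv (subgroupOfEquivOfLe inf_le_right).symm).exists_le_sylow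
  have hP : (R : Subgroup X) ⊓ L = (P : Subgroup ↥L).map L.subtype := by
    have hle : (R : Subgroup X) ⊓ L ≤ (P : Subgroup ↥L).map L.subtype := fun x hx => ⟨⟨x, hx.2⟩, hP' hx, rfl⟩
    refine eq_of_le_of_card_ge hle ?_
    obtain ⟨x, -, hx⟩ := exists_conj_le R le_top (P.isPGroup'.map L.subtype) le_top
    rw [Nat.card_congr (equivMapOfInjective ((P : Subgroup ↥L).map L.subtype) (MulAut.conj x).toMonoidHom
      (MulAut.conj x).injective).toEquiv]
    refine card_le_of_le (le_inf hx ?_)
    rintro _ ⟨y, hy, rfl⟩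
    exact hLn.conj_mem y (map_subtype_le _ hy) x
  set Q := (P : Subgroup ↥L).map L.subtype with hQ
  have hQR : Q ≤ (R : Subgroup X) := hP ▸ inf_le_left
  have hQp : IsPGroup 2 Q := P.isPGroup'.map _
  have hLN : L ≤ N := by
    intro x hx
    obtain ⟨q, hq, hqx⟩ := (Cores.map_mk'_sylow_pPrimePCore P).ge
      (show QuotientGroup.mk' (pPrimeCore 2 X) x ∈ pCore 2 (X ⧸ pPrimeCore 2 X) from hx)
    have h1 : q⁻¹ * x ∈ pPrimeCore 2 X :=
      (QuotientGroup.eq_one_iff _).1 (show QuotientGroup.mk' (pPrimeCore 2 X) (q⁻¹ * x) = 1 by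
        rw [map_mul, map_inv, hqx, inv_mul_cancel])
    have := mul_mem (hRN (hQR hq)) (hO h1)
    rwa [mul_inv_cancel_left] at this
  have hfr : normalizer (Q : Set X) ⊔ L = ⊤ := Sylow.normalizer_sup_eq_top P
  suffices hNQ : normalizer (Q : Set X) ≤ N from top_le_iff.1 (hfr ▸ sup_le hNQ hLN)
  have hCQ : centralizer (Q : Set X) ≤ L := hX P
  by_cases hfour : ∃ V ≤ Q, IsElementaryAbelian 2 V ∧ 2 ^ 2 ≤ Nat.card V
  · obtain ⟨V, hVQ, hV, hV2⟩ := hfour
    intro g hg
    refine hfus V (hVQ.trans hQR) hV hV2 g ?_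
    rintro _ ⟨v, hv, rfl⟩
    exact hQR ((mem_normalizer_iff.1 hg v).1 (hVQ hv))
  push Not at hfour
  set f := normalizerMonoidHom Q with hf
  have hker : f.ker = (centralizer (Q : Set X)).subgroupOf (normalizer (Q : Set X)) :=
    normalizerMonoidHom_ker Q
  by_cases hAut : IsPGroup 2 (MulAut Q)
  · -- `X` is then `L R`
    intro g hg
    have hquot : IsPGroup 2 (X ⧸ L) := by
      intro y
      obtain ⟨x, rfl⟩ := QuotientGroup.mk'_surjective L y
      have hx : x ∈ L ⊔ normalizer (Q : Set X) := by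
        rw [sup_comm, hfr]
        exact mem_top x
      have hLtop : normalizer (Q : Set X) ≤ normalizer (L : Set X) := by
        rw [normalizer_eq_top_iff.2 hLn]
        exact le_top
      obtain ⟨l, hl, n, hn, rfl⟩ := CfsgLib.Solvable.exists_mul_of_mem_sup hLtop hx
      obtain ⟨j, hj⟩ := hAut (f ⟨n, hn⟩)
      rw [← map_pow, ← MonoidHom.mem_ker, hker, mem_subgroupOf] at hj
      refine ⟨j, ?_⟩
      have hl1 : QuotientGroup.mk' L l = 1 := (QuotientGroup.eq_one_iff l).2 hl
      rw [map_mul, hl1, one_mul, ← map_pow]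
      exact (QuotientGroup.eq_one_iff _).2 (hCQ hj)
    have htop : (R.mapSurjective (QuotientGroup.mk'_surjective L) : Subgroup (X ⧸ L)) = ⊤ :=
      ((R.mapSurjective (QuotientGroup.mk'_surjective L)).3 (hquot.to_subgroup ⊤) le_top).symm
    rw [Sylow.coe_mapSurjective] at htop
    obtain ⟨r, hr, hrg⟩ := htop.ge (mem_top (QuotientGroup.mk' L g))
    have h1 : r⁻¹ * g ∈ L := (QuotientGroup.eq_one_iff _).1
      (show QuotientGroup.mk' L (r⁻¹ * g) = 1 by rw [map_mul, map_inv, hrg, inv_mul_cancel])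
    have := mul_mem (hRN hr) (hLN h1)
    rwa [mul_inv_cancel_left] at this
  · exfalso
    obtain ⟨e⟩ := (isPGroup_mulAut_or_quaternion hQp hfour).resolve_left hAut
    -- the Sylow subgroup induces at least sixteen automorphisms
    have hRQ : (R : Subgroup X) ≤ normalizer (Q : Set X) := by
      intro r hr
      refine CfsgLib.Solvable.mem_normalizer_of_conj_mem fun q hq => hP.le ⟨?_, ?_⟩
      · exact Subgroup.mul_mem _ (Subgroup.mul_mem _ hr (hQR hq)) (Subgroup.inv_mem _ hr)
      · exact hLn.conj_mem q (map_subtype_le _ hq) r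
    have hcQ : Nat.card Q = 8 := by
      rw [Nat.card_congr e.toEquiv, Nat.card_eq_fintype_card]
      rfl
    obtain ⟨n, hn⟩ := IsPGroup.iff_card.1 R.isPGroup'
    have hR32 : 32 ≤ Nat.card (R : Subgroup X) := by
      have h1 := hA.2
      have h2 : Nat.card ↥(A ⊓ Q) < 2 ^ 2 := hfour _ inf_le_right (PGroup.elemAb_mono hA.1 inf_le_left)
      obtain ⟨m, hm⟩ := PGroup.elemAb_card (PGroup.elemAb_mono hA.1 (inf_le_left : A ⊓ Q ≤ A))
      have hm2 : m ≤ 1 := by
        rw [hm] at h2
        exact Nat.lt_succ_iff.1 ((Nat.pow_lt_pow_iff_right (by norm_num)).1 h2)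
      have h3 : Nat.card ↥(A ⊓ Q) ≤ 2 := hm ▸ (Nat.pow_le_pow_right (by norm_num) hm2).trans (pow_one 2).le
      have h4 : (A ⊓ Q).relIndex A * Nat.card ↥(A ⊓ Q) = Nat.card A :=
        relIndex_mul_card_of_le inf_le_left
      have h5 : Q.relIndex (R : Subgroup X) * Nat.card Q = Nat.card (R : Subgroup X) := relIndex_mul_card_of_le hQR
      have h6 : (A ⊓ Q).relIndex A ≤ Q.relIndex (R : Subgroup X) := by
        rw [inf_relIndex_left]
        exact relIndex_le_of_le_right hAR
          (by intro h0; rw [h0, zero_mul] at h5; exact Nat.card_pos.ne h5)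
      have h7 : 4 ≤ (A ⊓ Q).relIndex A := by
        by_contra h7
        have := Nat.mul_le_mul (Nat.le_of_lt_succ (not_le.1 h7)) h3
        rw [h4] at this
        omega
      rw [← h5, hcQ]
      omega
    set g := f.comp (inclusion hRQ) with hg
    have hkg : Nat.card g.ker ≤ 2 := by
      have hsub : g.ker.map (R : Subgroup X).subtype ≤ (center Q).map Q.subtype := by
        rintro _ ⟨r, hr, rfl⟩
        have h1 : (r : X) ∈ centralizer (Q : Set X) := by
          have : inclusion hRQ r ∈ f.ker := hr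
          rw [hker] at this
          exact this
        have h2 : (r : X) ∈ Q := hP.le ⟨r.2, hCQ h1⟩
        refine ⟨⟨r, h2⟩, mem_center_iff.2 fun q => Subtype.ext (mem_centralizer_iff.1 h1 q q.2), rfl⟩
      have h1 := card_le_of_le hsub
      rw [card_map_of_injective (R : Subgroup X).subtype_injective, card_map_of_injective Q.subtype_injective,
        Nat.card_congr (Subgroup.centerCongr e).toEquiv] at h1
      refine h1.trans ?_
      rw [Nat.card_eq_fintype_card]
      decide +kernel
    have hrange : Nat.card g.range * Nat.card g.ker = Nat.card (R : Subgroup X) := by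
      rw [← index_ker]
      exact index_mul_card g.ker
    obtain ⟨m, -, hm⟩ := (Nat.dvd_prime_pow Nat.prime_two).1
      (show Nat.card g.range ∣ 2 ^ n from hn ▸ Dvd.intro _ hrange)
    have h16 : 2 ^ 4 ∣ Nat.card g.range := by
      rw [hm]
      refine pow_dvd_pow 2 ?_
      by_contra h4
      have h8 : Nat.card g.range ≤ 2 ^ 3 := hm ▸ Nat.pow_le_pow_right (by norm_num) (by omega)
      have := Nat.mul_le_mul h8 hkg
      omega
    have h16' : 16 ∣ Nat.card (MulAut Q) := by
      refine dvd_trans ?_ (card_subgroup_dvd_card g.range)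
      simpa using h16
    by_cases h2 : ∀ r : ℕ, r.Prime → r ∣ Nat.card (MulAut Q) → r = 2
    · refine hAut (IsPGroup.of_card (n := (Nat.card (MulAut Q)).primeFactorsList.length)
        (Nat.eq_prime_pow_of_unique_prime_dvd ?_ fun {r} hr hrd => h2 r hr hrd))
      haveI : Finite (MulAut Q) := Finite.of_injective (fun φ : MulAut Q => (φ : Q → Q)) DFunLike.coe_injective
      exact Nat.card_pos.ne'
    · push Not at h2
      obtain ⟨r, hr, hrd, hr2⟩ := h2
      exact false_of_sixteen_dvd hr hr2 e h16' hrd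

end CfsgLib.Dichotomy
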