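import Cfsg.Agent.Lib.Dichotomy.Centralizer
import Cfsg.Agent.S1292
import Cfsg.Agent.S1297

/-!
# Groups of non-component type with a connected Sylow 2-subgroup

Modulo the fact that the core of a strongly embedded subgroup lies in the core of the group, a group of
2-rank at least 3 with trivial core, not of component type, whose Sylow 2-subgroup is connected, is of
characteristic 2 type.
-/

set_option autoImplicit false

namespace CfsgLib.Dichotomy

open Subgroup Cfsg
open CfsgLib.Cores (thetaClosure)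

variable {G : Type*} [Group G] [Finite G]

/-- Without components modulo cores the centralizers of involutions are 2-constrained. -/
theorem isPConstrained_of_not_componentType (hc : ¬ IsComponentType G) {t : G} (ht : orderOf t = 2) :
    IsPConstrained 2 ↥(centralizer ({t} : Set G)) := by
  haveI : Fact (Nat.Prime 2) := ⟨Nat.prime_two⟩
  rw [Cores.isPConstrained_iff, Cores.centralizer_pCore_le_iff (Cores.pPrimeCore_quotient_self 2),
    Cores.layer_eq_bot_iff]
  intro L hL
  exact hc ⟨t, ht, L, hL.1, hL.2⟩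

/-- Without components modulo cores the group is balanced. -/
theorem isBalanced_of_not_componentType (hc : ¬ IsComponentType G) : IsBalanced G :=
  Cfsg.Agent.S1297.result fun x hx K hK => absurd ⟨x, hx, K, hK.1, hK.2⟩ hc

omit [Finite G] in
theorem isKleinFour_iff_elemAb {U : Subgroup G} :
    IsKleinFour U ↔ IsElementaryAbelian 2 U ∧ Nat.card U = 4 := by
  constructor
  · intro h
    have h2 : ∀ u ∈ U, u * u = 1 := fun u hu => congrArg Subtype.val (IsKleinFour.mul_self (⟨u, hu⟩ : U))
    refine ⟨PGroup.isElementaryAbelian_mk (fun a ha b hb => ?_) (fun a ha => (pow_two a).trans (h2 a ha)),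
      IsKleinFour.card_four⟩
    calc a * b = (b * b) * (a * b) * (a * a) := by rw [h2 b hb, h2 a ha, one_mul, mul_one]
      _ = b * (b * a * (b * a)) * a := by group
      _ = b * a := by rw [h2 _ (mul_mem hb ha), mul_one]
  · rintro ⟨h, h4⟩
    refine { card_four := h4, exponent_two := ?_ }
    haveI : Finite U := Nat.finite_of_card_ne_zero (by rw [h4]; norm_num)
    refine (Nat.dvd_prime Nat.prime_two).1 (Monoid.exponent_dvd_of_forall_pow_eq_one fun u => Subtype.ext (h.2 u u.2))
      |>.resolve_left fun h1 => ?_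
    rw [Monoid.exp_eq_one_iff] at h1
    haveI := h1
    rw [Nat.card_of_subsingleton (1 : U)] at h4
    norm_num at h4

/-- Conjugating into the Sylow subgroup. -/
theorem exists_eight_le (S : Sylow 2 G) {A : Subgroup G} (hA : IsEight A) :
    ∃ B ≤ (S : Subgroup G), IsEight B := by
  obtain ⟨m, -, hm⟩ := exists_conj_le S le_top (PGroup.elemAb_isPGroup hA.1) le_top
  exact ⟨_, hm, hA.map m⟩

theorem exists_four_le {A : Subgroup G} (hA : IsEight A) :
    ∃ U ≤ A, IsElementaryAbelian 2 U ∧ Nat.card U = 4 := by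
  haveI : Fact (Nat.Prime 2) := ⟨Nat.prime_two⟩
  obtain ⟨n, hn⟩ := PGroup.elemAb_card hA.1
  have h2 : 2 ^ 2 ∣ Nat.card A := by
    rw [hn]
    exact pow_dvd_pow 2 ((Nat.pow_le_pow_iff_right (by norm_num : 1 < 2)).1
      ((Nat.pow_le_pow_right (by norm_num) (by norm_num)).trans (hn ▸ hA.2)))
  obtain ⟨U, hU⟩ := Sylow.exists_subgroup_card_pow_prime 2 h2
  exact ⟨U.map A.subtype, map_subtype_le _, PGroup.elemAb_mono hA.1 (map_subtype_le _),
    by rw [card_map_of_injective A.subtype_injective, hU]; norm_num⟩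

theorem isEight_sup_of_ne {U V : Subgroup G} (hU : IsElementaryAbelian 2 U) (hU4 : Nat.card U = 4)
    (hV : IsElementaryAbelian 2 V) (hV4 : Nat.card V = 4) (hc : ∀ u ∈ U, ∀ v ∈ V, u * v = v * u) (hne : V ≠ U) :
    IsEight (U ⊔ V) := by
  haveI : Fact (Nat.Prime 2) := ⟨Nat.prime_two⟩
  have hel := Cores.elemAb_sup hU hV hc
  refine ⟨hel, ?_⟩
  obtain ⟨n, hn⟩ := PGroup.elemAb_card hel
  rw [hn]
  refine Nat.pow_le_pow_right (by norm_num) ?_
  by_contra h3
  have hle : Nat.card ↥(U ⊔ V) ≤ 4 := by
    rw [hn]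
    exact (Nat.pow_le_pow_right (by norm_num) (by omega : n ≤ 2)).trans (by norm_num)
  exact hne ((eq_of_le_of_card_ge le_sup_right (hle.trans hV4.ge)).trans
    (eq_of_le_of_card_ge le_sup_left (hle.trans hU4.ge)).symm)

theorem setup_of_connected (hO : oddCore G = ⊥) (hrk : ¬ PRankLE 2 2 G) (hbal : IsBalanced G) (S : Sylow 2 G)
    (hS : IsFourConnected (S : Subgroup G)) : Setup S := by
  haveI : Fact (Nat.Prime 2) := ⟨Nat.prime_two⟩
  obtain ⟨A', hA', hA'8⟩ := Cores.not_pRankLE_two_iff.1 hrk
  obtain ⟨A₀, hA₀S, hA₀⟩ := exists_eight_le S (A := A') ⟨hA', hA'8⟩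
  have hfour : ∀ U : Subgroup (S : Subgroup G), IsKleinFour U →
      IsElementaryAbelian 2 (U.map (S : Subgroup G).subtype) ∧ Nat.card (U.map (S : Subgroup G).subtype) = 4 :=
    fun U hU => ⟨PGroup.elemAb_map (isKleinFour_iff_elemAb.1 hU).1 _,
      by rw [card_map_of_injective (S : Subgroup G).subtype_injective, (isKleinFour_iff_elemAb.1 hU).2]⟩
  have hklein : ∀ U : Subgroup G, U ≤ (S : Subgroup G) → IsElementaryAbelian 2 U → Nat.card U = 4 →
      IsKleinFour (U.subgroupOf (S : Subgroup G)) := fun U hUS hU hU4 => isKleinFour_iff_elemAb.2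
    ⟨PGroup.elemAb_subgroupOf hU, by rw [Nat.card_congr (subgroupOfEquivOfLe hUS).toEquiv, hU4]⟩
  -- every four-group of `S` lies in a subgroup of type `E₈` of `S`
  have hext : ∀ U : Subgroup G, U ≤ (S : Subgroup G) → IsElementaryAbelian 2 U → Nat.card U = 4 →
      ∃ A ≤ (S : Subgroup G), IsEight A ∧ U ≤ A := by
    intro U hUS hU hU4
    by_contra hno
    obtain ⟨V, hVA, hV, hV4⟩ := exists_four_le hA₀
    have hVS := hVA.trans hA₀S
    have hreach : ∀ W : Subgroup (S : Subgroup G), Relation.ReflTransGen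
        (fun A B : Subgroup (S : Subgroup G) => IsKleinFour A ∧ IsKleinFour B ∧ ∀ a ∈ A, ∀ b ∈ B, a * b = b * a)
        (U.subgroupOf (S : Subgroup G)) W → W = U.subgroupOf (S : Subgroup G) := by
      intro W hW
      induction hW with
      | refl => rfl
      | @tail X Y _ hXY ih =>
        subst ih
        obtain ⟨-, hY, hcomm⟩ := hXY
        by_contra hne
        obtain ⟨hY1, hY4⟩ := hfour Y hY
        refine hno ⟨U ⊔ Y.map (S : Subgroup G).subtype, sup_le hUS (map_subtype_le _),
          isEight_sup_of_ne hU hU4 hY1 hY4 ?_ (fun e => hne ?_), le_sup_left⟩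
        · rintro u hu _ ⟨y, hy, rfl⟩
          exact congrArg Subtype.val (hcomm ⟨u, hUS hu⟩ hu y hy)
        · rw [← e, Subgroup.subgroupOf, Subgroup.comap_map_eq_self_of_injective (Subgroup.subtype_injective _)]
    have h := hreach _ (hS _ _ (hklein U hUS hU hU4) (hklein V hVS hV hV4))
    have hVU : V = U := by
      rw [← map_subgroupOf_eq_of_le hVS, h, map_subgroupOf_eq_of_le hUS]
    exact hno ⟨A₀, hA₀S, hA₀, hVU ▸ hVA⟩
  -- the cores over a four-group and over a subgroup of type `E₈` containing it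
  have hgo : ∀ U A : Subgroup G, U ≤ A → IsEight A → Nat.card U = 4 →
      thetaClosure (centralizerPPrimeCore 2) U = thetaClosure (centralizerPPrimeCore 2) A := fun U A hUA hA hU4 =>
    Cores.thetaClosure_eq_of_le (complete hbal) hA.1 hA.2 hUA (le_of_eq (by rw [hU4]; norm_num))
  refine ⟨hO, hbal, ?_, ?_, ?_⟩
  · refine even_iff_two_dvd.2 (dvd_trans ?_ (card_subgroup_dvd_card A₀))
    obtain ⟨n, hn⟩ := PGroup.elemAb_card hA₀.1
    rw [hn]
    refine dvd_pow_self 2 fun h0 => ?_
    have := hA₀.2
    rw [hn, h0] at this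
    norm_num at this
  · intro t htS ht
    by_cases hcent : ∀ s ∈ (S : Subgroup G), s * t = t * s
    · refine ⟨A₀ ⊔ zpowers t, sup_le hA₀S (zpowers_le.2 htS),
        ⟨Cores.elemAb_sup hA₀.1 (PGroup.elemAb_zpowers (ht ▸ pow_orderOf_eq_one t)) ?_, ?_⟩,
        mem_sup_right (mem_zpowers t)⟩
      · rintro a ha _ ⟨i, rfl⟩
        exact ((show Commute a t from hcent a (hA₀S ha)).zpow_right i).eq
      · exact hA₀.2.trans (card_le_of_le le_sup_left)
    · obtain ⟨z, hz, hzS, hzc⟩ : ∃ z : G, orderOf z = 2 ∧ z ∈ (S : Subgroup G) ∧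
          ∀ s ∈ (S : Subgroup G), s * z = z * s := by
        haveI : Nontrivial (S : Subgroup G) := ⟨⟨⟨t, htS⟩, 1, fun e => by
          have := congrArg Subtype.val e
          simp only [OneMemClass.coe_one] at this
          rw [this, orderOf_one] at ht
          norm_num at ht⟩⟩
        haveI := S.isPGroup'.center_nontrivial
        obtain ⟨⟨z, hzc⟩, hz⟩ := exists_prime_orderOf_dvd_card' (G := ↥(center (S : Subgroup G))) 2
          ((S.isPGroup'.to_subgroup _).card_eq_or_dvd.resolve_left fun h1 => by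
            have := Finite.one_lt_card (α := ↥(center (S : Subgroup G)))
            omega)
        rw [← Subgroup.orderOf_coe, ← Subgroup.orderOf_coe] at hz
        exact ⟨z, hz, z.2, fun s hs => congrArg Subtype.val (mem_center_iff.1 hzc ⟨s, hs⟩)⟩
      have hne : z ≠ t := fun e => hcent (e ▸ hzc)
      set U := zpowers t ⊔ zpowers z
      have hUS : U ≤ (S : Subgroup G) := sup_le (zpowers_le.2 htS) (zpowers_le.2 hzS)
      have hU : IsElementaryAbelian 2 U := Cores.elemAb_sup (PGroup.elemAb_zpowers (ht ▸ pow_orderOf_eq_one t))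
        (PGroup.elemAb_zpowers (hz ▸ pow_orderOf_eq_one z)) (by
          rintro a ⟨i, rfl⟩ b ⟨j, rfl⟩
          exact ((show Commute t z from hzc t htS).zpow_zpow i j).eq)
      have hU4 : Nat.card U = 4 := by
        refine le_antisymm ?_ ?_
        · have hn : zpowers z ≤ normalizer (zpowers t : Set G) :=
            le_trans (fun w hw => mem_centralizer_iff.2 fun v hv => PGroup.elemAb_comm hU (mem_sup_left hv)
              (mem_sup_right hw)) (centralizer_le_normalizer _)
          have h1 := Nat.card_le_card_of_surjective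
            (fun w : zpowers t × zpowers z => (⟨(w.1 : G) * (w.2 : G), mul_mem (mem_sup_left w.1.2) (mem_sup_right w.2.2)⟩ : U))
            (fun u => by
              obtain ⟨a, ha, b, hb, hab⟩ := Solvable.exists_mul_of_mem_sup hn u.2
              exact ⟨(⟨a, ha⟩, ⟨b, hb⟩), Subtype.ext hab.symm⟩)
          rwa [Nat.card_prod, Nat.card_zpowers, Nat.card_zpowers, ht, hz] at h1
        · obtain ⟨n, hn⟩ := PGroup.elemAb_card hU
          rw [hn]
          rcases Nat.lt_or_ge n 2 with h2 | h2
          · exfalso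
            have hle : Nat.card U ≤ 2 := hn ▸ (Nat.pow_le_pow_right (by norm_num) (by omega : n ≤ 1)).trans (pow_one 2).le
            have e1 : zpowers t = U := eq_of_le_of_card_ge le_sup_left (by rw [Nat.card_zpowers, ht]; exact hle)
            have hzt : z ∈ zpowers t := e1 ▸ mem_sup_right (mem_zpowers z)
            obtain ⟨i, hi⟩ := mem_zpowers_iff.1 hzt
            rcases Int.even_or_odd i with ⟨l, rfl⟩ | ⟨l, rfl⟩
            · rw [← two_mul, zpow_mul, zpow_ofNat, ← ht, pow_orderOf_eq_one, one_zpow] at hi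
              rw [← hi, orderOf_one] at hz
              norm_num at hz
            · rw [zpow_add, zpow_mul, zpow_ofNat, ← ht, pow_orderOf_eq_one, one_zpow, one_mul, zpow_one] at hi
              exact hne hi.symm
          · exact le_trans (by norm_num) (Nat.pow_le_pow_right (by norm_num) h2)
      obtain ⟨A, hAS, hA, hUA⟩ := hext U hUS hU hU4
      exact ⟨A, hAS, hA, hUA (mem_sup_left (mem_zpowers t))⟩
  · intro A B hAS hBS hA hB
    obtain ⟨U, hUA, hU, hU4⟩ := exists_four_le hA
    obtain ⟨V, hVB, hV, hV4⟩ := exists_four_le hB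
    rw [← hgo U A hUA hA hU4, ← hgo V B hVB hB hV4]
    have hchain : ∀ W : Subgroup (S : Subgroup G), Relation.ReflTransGen
        (fun A B : Subgroup (S : Subgroup G) => IsKleinFour A ∧ IsKleinFour B ∧ ∀ a ∈ A, ∀ b ∈ B, a * b = b * a)
        (U.subgroupOf (S : Subgroup G)) W →
        thetaClosure (centralizerPPrimeCore 2) U =
          thetaClosure (centralizerPPrimeCore 2) (W.map (S : Subgroup G).subtype) := by
      intro W hW
      induction hW with
      | refl => rw [map_subgroupOf_eq_of_le (hUA.trans hAS)]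
      | @tail X Y _ hXY ih =>
        obtain ⟨hX, hY, hcomm⟩ := hXY
        obtain ⟨hX1, hX4⟩ := hfour X hX
        obtain ⟨hY1, hY4⟩ := hfour Y hY
        rw [ih]
        by_cases hne : Y.map (S : Subgroup G).subtype = X.map (S : Subgroup G).subtype
        · rw [hne]
        have h8 := isEight_sup_of_ne hX1 hX4 hY1 hY4 (by
          rintro _ ⟨x, hx, rfl⟩ _ ⟨y, hy, rfl⟩
          exact congrArg Subtype.val (hcomm x hx y hy)) hne
        rw [hgo _ _ le_sup_left h8 hX4, hgo _ _ le_sup_right h8 hY4]
    have h := hchain _ (hS _ _ (hklein U (hUA.trans hAS) hU hU4) (hklein V (hVB.trans hBS) hV hV4))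
    rwa [map_subgroupOf_eq_of_le (hVB.trans hBS)] at h

namespace Setup

variable {S : Sylow 2 G} (h : Setup S)
include h

/-- In the constrained case `coreM S` contains the centralizers of its involutions. -/
theorem centralizer_le (hcon : ∀ t : G, orderOf t = 2 → IsPConstrained 2 ↥(centralizer ({t} : Set G)))
    (t : G) (ht : orderOf t = 2) (htM : t ∈ coreM S) : centralizer ({t} : Set G) ≤ coreM S := by
  haveI : Fact (Nat.Prime 2) := ⟨Nat.prime_two⟩
  obtain ⟨A, hAM, hA, htA⟩ := h.exists_eight_mem ht htM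
  set X := centralizer ({t} : Set G)
  have hAX : A ≤ X := fun a ha => mem_centralizer_singleton_iff.2 (PGroup.elemAb_comm hA.1 ha htA)
  obtain ⟨R, hR⟩ := ((PGroup.elemAb_isPGroup hA.1).of_equiv (subgroupOfEquivOfLe hAX).symm).exists_le_sylow
  set N := (coreM S).subgroupOf X
  have hV : ∀ V : Subgroup X, IsElementaryAbelian 2 V → 2 ^ 2 ≤ Nat.card V → V ≤ N → ∀ g : X,
      V.map (MulAut.conj g).toMonoidHom ≤ N → g ∈ N := by
    intro V hVe hV2 hVN g hg
    refine h.mem_coreM_of_four (V := V.map X.subtype) (PGroup.elemAb_map hVe _)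
      (by rw [card_map_of_injective X.subtype_injective]; exact hV2) ?_ ?_
    · rintro _ ⟨v, hv, rfl⟩
      exact hVN hv
    · rintro _ ⟨_, ⟨v, hv, rfl⟩, rfl⟩
      exact hg ⟨v, hv, rfl⟩
  have hAN : A.subgroupOf X ≤ N := fun a ha => hAM ha
  have hA' : IsEight (A.subgroupOf X) :=
    ⟨PGroup.elemAb_subgroupOf hA.1, by rw [Nat.card_congr (subgroupOfEquivOfLe hAX).toEquiv]; exact hA.2⟩
  have h4 : 2 ^ 2 ≤ Nat.card (A.subgroupOf X) := (Nat.pow_le_pow_right (by norm_num) (by norm_num)).trans hA'.2
  -- the Sylow subgroup lies in `N`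
  have hRN : (R : Subgroup X) ≤ N := by
    by_contra hnot
    have hlt : (R : Subgroup X) ⊓ N < R := lt_of_le_not_ge inf_le_left fun h' => hnot (h'.trans inf_le_right)
    obtain ⟨g, hg, hgn⟩ := SetLike.exists_of_lt (Signalizer.isPGroup_inf_normalizer_gt R.isPGroup' hlt)
    refine hgn ⟨hg.1, hV _ hA'.1 h4 hAN g ?_⟩
    rintro _ ⟨a, ha, rfl⟩
    exact ((mem_normalizer_iff.1 hg.2 a).1 ⟨hR ha, hAN ha⟩).2
  have hO : pPrimeCore 2 X ≤ N := by
    intro x hx
    have h1 : (x : G) ∈ centralizerPPrimeCore 2 t := ⟨x, hx, rfl⟩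
    rw [← h.theta_eq ht htM] at h1
    exact le_normalizer h1.1
  have htop := eq_top_of_constrained (hcon t ht) R N hO hRN hA' hR fun V hVR hVe hV2 g hg =>
    hV V hVe hV2 (hVR.trans hRN) g (hg.trans hRN)
  exact subgroupOf_eq_top.1 htop

end Setup

/-- The dichotomy for a connected Sylow 2-subgroup. -/
theorem isCharacteristicTwoType_of_connected (hSE : StronglyEmbeddedCoreProp G) (h3 : ¬ PRankLE 2 2 G)
    (hO : oddCore G = ⊥) (hc : ¬ IsComponentType G) (S : Sylow 2 G)
    (hS : IsFourConnected (S : Subgroup G)) : IsCharacteristicTwoType G := by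
  haveI : Fact (Nat.Prime 2) := ⟨Nat.prime_two⟩
  have h := setup_of_connected hO h3 (isBalanced_of_not_componentType hc) S hS
  have hcon := fun t ht => isPConstrained_of_not_componentType hc (t := t) ht
  refine ⟨h.even, fun T hT hT1 => ?_⟩
  have hF := Cfsg.Agent.S1292.result (G := G) (fun t ht => ?_) T hT hT1
  · obtain ⟨hO', hE⟩ := Cores.generalizedFittingSubgroup_eq_pCore_iff.1 hF
    exact (Cores.centralizer_pCore_le_iff hO').2 hE
  · have hbot := h.core_centralizer_eq_bot hSE (h.centralizer_le hcon) ht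
    rw [centralizerPPrimeCore, map_eq_bot_iff_of_injective _ (subtype_injective _)] at hbot
    refine Cores.generalizedFittingSubgroup_eq_pCore_iff.2 ⟨hbot, ?_⟩
    rw [Cores.layer_eq_bot_iff]
    intro L hL
    have h1 : IsPComponent 2 L :=
      Cores.isPComponent_of_isComponent hL fun h' => Cores.component_ne_bot hL (le_bot_iff.1 (hbot ▸ h'))
    exact Cores.component_ne_bot hL
      (le_bot_iff.1 (Cores.isPConstrained_iff_pLayer_eq_bot.1 (hcon t ht) ▸ Cores.pComponent_le_pLayer h1))

end CfsgLib.Dichotomy
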