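import Cfsg.Agent.Lib.Signalizer.Corollaries
import Cfsg.Agent.Lib.Cores.PConstrained
import Cfsg.Agent.Lib.Cores.Balance
import Cfsg.Agent.S0205
import Cfsg.Prelude.Def_Involutions

/-!
# Balanced groups whose Sylow 2-subgroup carries a connected family of subgroups of type `E₈`

For a balanced group `G` with trivial core the cores `O(C(t))` of the involutions `t` of a Sylow 2-subgroup
`S` generate a group `W` of odd order, the same on every elementary abelian subgroup of order at least 8 of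
`S`. Its normalizer controls everything 2-local in `S`.
-/

set_option autoImplicit false

namespace CfsgLib.Dichotomy

open Subgroup Cfsg
open CfsgLib.Cores (thetaClosure)

/-- The statement that a strongly embedded subgroup has its core inside the core of the group. -/
def StronglyEmbeddedCoreProp (G : Type*) [Group G] : Prop :=
  ∀ H : Subgroup G, IsStronglyEmbedded H → (oddCore ↥H).map H.subtype ≤ oddCore G

variable {G : Type*} [Group G] [Finite G]

/-- An elementary abelian subgroup of order at least 8. -/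
def IsEight (A : Subgroup G) : Prop :=
  IsElementaryAbelian 2 A ∧ 2 ^ 3 ≤ Nat.card A

omit [Finite G] in
theorem IsEight.map {A : Subgroup G} (hA : IsEight A) (g : G) :
    IsEight (A.map (MulAut.conj g).toMonoidHom) :=
  ⟨PGroup.elemAb_map hA.1 _, by rw [card_map_of_injective (MulAut.conj g).injective]; exact hA.2⟩

theorem centralizer_isEight {A : Subgroup G} (hA : IsEight A) {x : G} (hx : x ∈ A) :
    ¬ PRankLE 2 2 ↥(centralizer ({x} : Set G)) :=
  Cores.not_pRankLE_centralizer hA.1 hA.2 (Set.singleton_subset_iff.2 hx)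

/-- The cores of the centralizers of involutions are complete on subgroups of type `E₈` of a balanced group. -/
theorem complete (hbal : IsBalanced G) :
    Cores.IsCompleteOnRankThree 2 (centralizerPPrimeCore 2 : G → Subgroup G) := by
  intro A hA hA3
  have hord : ∀ x ∈ A, x ≠ 1 → orderOf x = 2 := fun x hx hx1 => orderOf_eq_prime (hA.2 x hx) hx1
  have hconj : ∀ b ∈ A, ∀ x ∈ A, x ≠ 1 →
      (centralizerPPrimeCore 2 x).map (MulAut.conj b).toMonoidHom = centralizerPPrimeCore 2 x := by
    intro b hb x hx _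
    rw [← Cores.centralizerPPrimeCore_conj, PGroup.elemAb_comm hA hb hx, mul_inv_cancel_right]
  have hodd : ∀ x : G, Odd (Nat.card ↥(centralizerPPrimeCore 2 x)) := fun x =>
    Nat.coprime_two_right.1 (Cores.card_centralizerPPrimeCore_coprime x)
  obtain ⟨h1, h2⟩ := Signalizer.solvableSignalizerTheorem 2 G A
    (fun x hx y hy => PGroup.elemAb_comm hA hx hy) hA.2 hA3 (centralizerPPrimeCore 2)
    (fun x _ _ => Cores.centralizerPPrimeCore_le x)
    (fun x _ _ => (hodd x).not_two_dvd_nat)
    (fun x hx hx1 b hb y hy => (hconj b hb x hx hx1).le ⟨y, hy, rfl⟩)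
    (fun x _ _ => Cfsg.Agent.S0205.result (hodd x))
    (fun x hx hx1 y hy hy1 =>
      (hbal x y (hord x hx hx1) (hord y hy hy1) (PGroup.elemAb_comm hA hx hy)).le.trans inf_le_left)
  refine ⟨h1, fun b hb x hx => ?_, h2⟩
  have hle : (⨆ a : {a : G // a ∈ A ∧ a ≠ 1}, centralizerPPrimeCore 2 (a : G)).map (MulAut.conj b).toMonoidHom ≤
      ⨆ a : {a : G // a ∈ A ∧ a ≠ 1}, centralizerPPrimeCore 2 (a : G) := by
    rw [Subgroup.map_iSup]
    exact iSup_le fun c => (hconj b hb c c.2.1 c.2.2).le.trans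
      (le_iSup (fun a : {a : G // a ∈ A ∧ a ≠ 1} => centralizerPPrimeCore 2 (a : G)) c)
  exact hle ⟨x, hx, rfl⟩

omit [Finite G] in
theorem map_conj_map_conj (g h : G) (A : Subgroup G) :
    (A.map (MulAut.conj g).toMonoidHom).map (MulAut.conj h).toMonoidHom =
      A.map (MulAut.conj (h * g)).toMonoidHom := by
  rw [Subgroup.map_map]
  congr 1
  ext x
  simp [mul_assoc]

omit [Finite G] in
theorem map_conj_one (A : Subgroup G) : A.map (MulAut.conj (1 : G)).toMonoidHom = A := by
  ext x; simp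

theorem thetaClosure_conj (g : G) (A : Subgroup G) :
    thetaClosure (centralizerPPrimeCore 2) (A.map (MulAut.conj g).toMonoidHom) =
      (thetaClosure (centralizerPPrimeCore 2) A).map (MulAut.conj g).toMonoidHom := by
  have key : ∀ (h : G) (B : Subgroup G), (thetaClosure (centralizerPPrimeCore 2) B).map (MulAut.conj h).toMonoidHom
      ≤ thetaClosure (centralizerPPrimeCore 2) (B.map (MulAut.conj h).toMonoidHom) := by
    intro h B
    rw [thetaClosure, Subgroup.map_iSup]
    refine iSup_le fun b => ?_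
    rw [← Cores.centralizerPPrimeCore_conj]
    exact le_iSup (fun a : {a : G // a ∈ B.map (MulAut.conj h).toMonoidHom ∧ a ≠ 1} =>
      centralizerPPrimeCore 2 (a : G)) ⟨h * b * h⁻¹, ⟨b, b.2.1, rfl⟩, fun e => b.2.2 (conj_eq_one_iff.1 e)⟩
  refine le_antisymm ?_ (key g A)
  have h := key g⁻¹ (A.map (MulAut.conj g).toMonoidHom)
  rw [map_conj_map_conj, inv_mul_cancel, map_conj_one] at h
  have h' := Subgroup.map_mono (f := (MulAut.conj g).toMonoidHom) h
  rwa [map_conj_map_conj, mul_inv_cancel, map_conj_one] at h'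

/-- A 2-subgroup of a subgroup containing `S` is conjugate inside it into `S`. -/
theorem exists_conj_le (S : Sylow 2 G) {M T : Subgroup G} (hSM : (S : Subgroup G) ≤ M) (hT : IsPGroup 2 T)
    (hTM : T ≤ M) : ∃ m ∈ M, T.map (MulAut.conj m).toMonoidHom ≤ (S : Subgroup G) := by
  obtain ⟨R, hR⟩ := (hT.of_equiv (subgroupOfEquivOfLe hTM).symm).exists_le_sylow
  obtain ⟨m, hm⟩ := MulAction.exists_smul_eq M R (S.subtype hSM)
  refine ⟨m, m.2, ?_⟩
  rintro _ ⟨t, ht, rfl⟩
  have h1 : (m * ⟨t, hTM ht⟩ * m⁻¹ : M) ∈ (m • R).toSubgroup := by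
    rw [Sylow.coe_subgroup_smul]
    exact Subgroup.smul_mem_pointwise_smul (⟨t, hTM ht⟩ : M) (MulAut.conj m) _ (hR (x := (⟨t, hTM ht⟩ : M)) ht)
  rw [hm] at h1
  exact h1

/-- What is used about `G` and its Sylow 2-subgroup `S`. -/
structure Setup (S : Sylow 2 G) : Prop where
  core : oddCore G = ⊥
  bal : IsBalanced G
  even : Even (Nat.card G)
  /-- every involution of `S` lies in a subgroup of type `E₈` of `S` -/
  tame : ∀ t ∈ (S : Subgroup G), orderOf t = 2 → ∃ A ≤ (S : Subgroup G), IsEight A ∧ t ∈ A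
  /-- the subgroups of type `E₈` of `S` give one group generated by cores -/
  const : ∀ A B : Subgroup G, A ≤ (S : Subgroup G) → B ≤ (S : Subgroup G) → IsEight A → IsEight B →
    thetaClosure (centralizerPPrimeCore 2) A = thetaClosure (centralizerPPrimeCore 2) B

/-- The group generated by the cores of centralizers over the subgroups of type `E₈` of `S`. -/
def coreW (S : Sylow 2 G) : Subgroup G :=
  ⨆ A : {A : Subgroup G // A ≤ (S : Subgroup G) ∧ IsEight A}, thetaClosure (centralizerPPrimeCore 2) (A : Subgroup G)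

/-- Its normalizer. -/
def coreM (S : Sylow 2 G) : Subgroup G :=
  normalizer (coreW S : Set G)

namespace Setup

variable {S : Sylow 2 G} (h : Setup S)
include h

theorem exists_eight : ∃ A ≤ (S : Subgroup G), IsEight A := by
  haveI : Fact (Nat.Prime 2) := ⟨Nat.prime_two⟩
  obtain ⟨t, ht⟩ := exists_prime_orderOf_dvd_card' (G := G) 2 h.even.two_dvd
  obtain ⟨m, -, hm⟩ := exists_conj_le S le_top (T := zpowers t)
    (PGroup.elemAb_isPGroup (PGroup.elemAb_zpowers (ht ▸ pow_orderOf_eq_one t))) le_top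
  obtain ⟨A, hAS, hA, -⟩ := h.tame _ (hm ⟨t, mem_zpowers t, rfl⟩) (by
    show orderOf ((MulAut.conj m) t) = 2
    rw [MulEquiv.orderOf_eq, ht])
  exact ⟨A, hAS, hA⟩

theorem coreW_eq {A : Subgroup G} (hAS : A ≤ (S : Subgroup G)) (hA : IsEight A) :
    coreW S = thetaClosure (centralizerPPrimeCore 2) A :=
  le_antisymm (iSup_le fun B => (h.const B A B.2.1 hAS B.2.2 hA).le)
    (le_iSup (fun B : {A : Subgroup G // A ≤ (S : Subgroup G) ∧ IsEight A} =>
      thetaClosure (centralizerPPrimeCore 2) (B : Subgroup G)) ⟨A, hAS, hA⟩)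

theorem odd_coreW : Odd (Nat.card (coreW S)) := by
  obtain ⟨A, hAS, hA⟩ := h.exists_eight
  rw [h.coreW_eq hAS hA]
  exact Nat.odd_iff.2 (Nat.two_dvd_ne_zero.1 ((complete h.bal A hA.1 hA.2).1))

omit [Finite G] h in
theorem mem_coreM_of_map {g : G} (hg : (coreW S).map (MulAut.conj g).toMonoidHom = coreW S) :
    g ∈ coreM S := by
  rw [coreM, Subgroup.mem_normalizer_iff]
  refine fun x => ⟨fun hx => hg.le ⟨x, hx, rfl⟩, fun hx => ?_⟩
  obtain ⟨y, hy, hyx⟩ := hg.ge hx
  rwa [← (MulAut.conj g).injective hyx]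

omit [Finite G] h in
theorem map_of_mem_coreM {g : G} (hg : g ∈ coreM S) :
    (coreW S).map (MulAut.conj g).toMonoidHom = coreW S := by
  refine le_antisymm ?_ fun x hx => ?_
  · rintro _ ⟨x, hx, rfl⟩
    exact (Subgroup.mem_normalizer_iff.1 hg x).1 hx
  · refine ⟨g⁻¹ * x * g, (Subgroup.mem_normalizer_iff.1 hg _).2 (by simpa [mul_assoc] using hx), ?_⟩
    simp [mul_assoc]

theorem le_coreM : (S : Subgroup G) ≤ coreM S := by
  intro s hs
  obtain ⟨A, hAS, hA⟩ := h.exists_eight
  refine mem_coreM_of_map ?_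
  rw [h.coreW_eq hAS hA, ← thetaClosure_conj]
  refine h.const _ _ ?_ hAS (hA.map s) hA
  rintro _ ⟨a, ha, rfl⟩
  exact mul_mem (mul_mem hs (hAS ha)) (inv_mem hs)

theorem closure_eq_of_le_coreM {A : Subgroup G} (hA : IsEight A) (hAM : A ≤ coreM S) :
    thetaClosure (centralizerPPrimeCore 2) A = coreW S := by
  obtain ⟨m, hm, hmS⟩ := exists_conj_le S h.le_coreM (PGroup.elemAb_isPGroup hA.1) hAM
  have h1 := h.coreW_eq hmS (hA.map m)
  rw [thetaClosure_conj] at h1
  refine Subgroup.map_injective (f := (MulAut.conj m).toMonoidHom) (MulAut.conj m).injective ?_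
  rw [← h1, map_of_mem_coreM hm]

/-- Every involution of `coreM S` lies in a subgroup of type `E₈` of it. -/
theorem exists_eight_mem {t : G} (ht : orderOf t = 2) (htM : t ∈ coreM S) :
    ∃ A ≤ coreM S, IsEight A ∧ t ∈ A := by
  obtain ⟨m, hm, hmS⟩ := exists_conj_le S h.le_coreM
    (PGroup.elemAb_isPGroup (PGroup.elemAb_zpowers (p := 2) (ht ▸ pow_orderOf_eq_one t)))
    (zpowers_le.2 htM)
  obtain ⟨A, hAS, hA, htA⟩ := h.tame _ (hmS ⟨t, mem_zpowers t, rfl⟩) (by
    show orderOf ((MulAut.conj m) t) = 2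
    rw [MulEquiv.orderOf_eq, ht])
  refine ⟨A.map (MulAut.conj m⁻¹).toMonoidHom, ?_, hA.map _, ?_⟩
  · rintro _ ⟨a, ha, rfl⟩
    exact mul_mem (mul_mem (inv_mem hm) (h.le_coreM (hAS ha))) (inv_mem (inv_mem hm))
  · exact ⟨_, htA, by simp [mul_assoc]⟩

/-- The core of the centralizer of an involution of `coreM S` is the centralizer in `coreW S`. -/
theorem theta_eq {t : G} (ht : orderOf t = 2) (htM : t ∈ coreM S) :
    coreW S ⊓ centralizer {t} = centralizerPPrimeCore 2 t := by
  obtain ⟨A, hAM, hA, htA⟩ := h.exists_eight_mem ht htM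
  rw [← h.closure_eq_of_le_coreM hA hAM]
  exact (complete h.bal A hA.1 hA.2).2.2 t htA (fun e => by rw [e, orderOf_one] at ht; norm_num at ht)

/-- A four-group of `coreM S` already generates `coreW S` from the cores of its involutions. -/
theorem closure_eq_of_four {V : Subgroup G} (hV : IsElementaryAbelian 2 V) (hV2 : 2 ^ 2 ≤ Nat.card V)
    (hVM : V ≤ coreM S) : thetaClosure (centralizerPPrimeCore 2) V = coreW S := by
  haveI : Fact (Nat.Prime 2) := ⟨Nat.prime_two⟩
  have hth : ∀ v ∈ V, v ≠ 1 → centralizerPPrimeCore 2 v = coreW S ⊓ centralizer {v} := fun v hv hv1 =>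
    (h.theta_eq (orderOf_eq_prime (hV.2 v hv) hv1) (hVM hv)).symm
  refine le_antisymm (iSup_le fun v => (hth v v.2.1 v.2.2).le.trans inf_le_left) ?_
  refine Cores.le_of_hyperplanes hV
    (Nat.coprime_two_right.2 h.odd_coreW) hVM fun B hB hidx => ?_
  obtain ⟨b, hb, hb1⟩ := B.bot_or_exists_ne_one.resolve_left fun e => by
    rw [e, relIndex_bot_left] at hidx
    have := hV2.trans hidx
    norm_num at this
  refine le_trans (inf_le_inf_left _ (centralizer_le (Set.singleton_subset_iff.2 hb))) ?_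
  rw [← hth b (hB hb) hb1]
  exact le_iSup (fun a : {a : G // a ∈ V ∧ a ≠ 1} => centralizerPPrimeCore 2 (a : G)) ⟨b, hB hb, hb1⟩

/-- The normalizer of `coreW S` controls the fusion of its four-groups. -/
theorem mem_coreM_of_four {V : Subgroup G} (hV : IsElementaryAbelian 2 V) (hV2 : 2 ^ 2 ≤ Nat.card V)
    (hVM : V ≤ coreM S) {g : G} (hg : V.map (MulAut.conj g).toMonoidHom ≤ coreM S) : g ∈ coreM S := by
  refine mem_coreM_of_map ?_
  have h1 := h.closure_eq_of_four (PGroup.elemAb_map hV (MulAut.conj g).toMonoidHom)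
    (by rw [card_map_of_injective (MulAut.conj g).injective]; exact hV2) hg
  rw [thetaClosure_conj, h.closure_eq_of_four hV hV2 hVM] at h1
  exact h1

/-- `coreM S` is strongly embedded unless it is everything, once it contains the centralizers of its
involutions. -/
theorem stronglyEmbedded (hC : ∀ t : G, orderOf t = 2 → t ∈ coreM S → centralizer ({t} : Set G) ≤ coreM S)
    (hne : coreM S ≠ ⊤) : IsStronglyEmbedded (coreM S) := by
  haveI : Fact (Nat.Prime 2) := ⟨Nat.prime_two⟩
  refine ⟨hne, ?_, fun g hg => ?_⟩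
  · obtain ⟨A, hAS, hA⟩ := h.exists_eight
    obtain ⟨n, hn⟩ := PGroup.elemAb_card hA.1
    refine even_iff_two_dvd.2 (dvd_trans ?_ (Subgroup.card_dvd_of_le (hAS.trans h.le_coreM)))
    rw [hn]
    refine dvd_pow_self 2 fun h0 => ?_
    have h3 := hA.2
    rw [hn, h0] at h3
    norm_num at h3
  · by_contra hodd
    rw [Nat.not_odd_iff_even, even_iff_two_dvd] at hodd
    obtain ⟨⟨t, ht1, s, hs, hst⟩, hto⟩ := exists_prime_orderOf_dvd_card' 2 hodd
    rw [← Subgroup.orderOf_coe] at hto
    have hst' : g * s * g⁻¹ = t := hst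
    have hso : orderOf s = 2 := by
      rw [← hto]
      simp only [← hst']
      exact (MulEquiv.orderOf_eq (MulAut.conj g) s).symm
    obtain ⟨A, hAM, hA, htA⟩ := h.exists_eight_mem hto ht1
    have hback : A.map (MulAut.conj g⁻¹).toMonoidHom ≤ coreM S := by
      refine le_trans ?_ (hC s hso hs)
      rintro _ ⟨a, ha, rfl⟩
      rw [Subgroup.mem_centralizer_singleton_iff]
      have hcomm : a * t = t * a := PGroup.elemAb_comm hA.1 ha htA
      rw [← hst'] at hcomm
      show g⁻¹ * a * g⁻¹⁻¹ * s = s * (g⁻¹ * a * g⁻¹⁻¹)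
      calc g⁻¹ * a * g⁻¹⁻¹ * s = g⁻¹ * (a * (g * s * g⁻¹)) * g := by group
        _ = g⁻¹ * ((g * s * g⁻¹) * a) * g := by rw [hcomm]
        _ = _ := by group
    refine hg (inv_mem_iff.1 (h.mem_coreM_of_four hA.1
      ((Nat.pow_le_pow_right (by norm_num) (by norm_num)).trans hA.2) hAM hback))

/-- All cores of centralizers of involutions are trivial. -/
theorem core_centralizer_eq_bot (hSE : StronglyEmbeddedCoreProp G)
    (hC : ∀ t : G, orderOf t = 2 → t ∈ coreM S → centralizer ({t} : Set G) ≤ coreM S)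
    {t : G} (ht : orderOf t = 2) : centralizerPPrimeCore 2 t = ⊥ := by
  have hW : coreW S = ⊥ := by
    have hcop : (Nat.card (coreW S)).Coprime 2 := Nat.coprime_two_right.2 h.odd_coreW
    have hle : coreW S ≤ coreM S := Subgroup.le_normalizer
    by_cases hne : coreM S = ⊤
    · haveI : (coreW S).Normal := Subgroup.normalizer_eq_top_iff.1 hne
      exact le_bot_iff.1 ((Cores.le_pPrimeCore hcop).trans h.core.le)
    · haveI : ((coreW S).subgroupOf (coreM S)).Normal := (Subgroup.normal_subgroupOf_iff_le_normalizer hle).2 le_rfl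
      have h1 : (coreW S).subgroupOf (coreM S) ≤ oddCore ↥(coreM S) := Cores.le_pPrimeCore
        (by rwa [Nat.card_congr (subgroupOfEquivOfLe hle).toEquiv])
      refine le_bot_iff.1 (le_trans ?_ ((hSE _ (h.stronglyEmbedded hC hne)).trans h.core.le))
      rw [← map_subgroupOf_eq_of_le hle]
      exact Subgroup.map_mono h1
  haveI : Fact (Nat.Prime 2) := ⟨Nat.prime_two⟩
  obtain ⟨m, -, hm⟩ := exists_conj_le S le_top
    (PGroup.elemAb_isPGroup (PGroup.elemAb_zpowers (p := 2) (ht ▸ pow_orderOf_eq_one t))) le_top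
  have hmo : orderOf (m * t * m⁻¹) = 2 := by
    rw [← ht]
    exact MulEquiv.orderOf_eq (MulAut.conj m) t
  have h1 := h.theta_eq hmo (h.le_coreM (hm ⟨t, mem_zpowers t, rfl⟩))
  rw [hW, bot_inf_eq, Cores.centralizerPPrimeCore_conj] at h1
  exact (Subgroup.map_eq_bot_iff_of_injective _ (MulAut.conj m).injective).1 h1.symm

end Setup

end CfsgLib.Dichotomy
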